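import Mathlib
import Groth.Prelude.Def_DRing3
import Groth.Prelude.Def_Wider

/-!
Elements killed by powers of an ideal.
-/

namespace Groth.Agent.PowTors

universe u v

variable {R : Type u} [CommRing R] {I : Ideal R}

theorem exists_pow_smul_eq_zero {M : Type v} [AddCommGroup M] [Module R M] (hI : I.FG) {m : M}
    (h : ∀ a ∈ I, ∃ n, ∀ b ∈ I ^ n, (b * a) • m = 0) : ∃ n, ∀ b ∈ I ^ n, b • m = 0 := by
  classical
  obtain ⟨S, hS⟩ := hI
  choose n hn using fun a : S => h a (hS ▸ Ideal.subset_span a.2)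
  refine ⟨Finset.univ.sup n + 1, fun b hb => ?_⟩
  rw [pow_succ] at hb
  refine Submodule.mul_induction_on hb (fun c hc a ha => ?_)
    (fun x y hx hy => by rw [add_smul, hx, hy, add_zero])
  rw [← hS] at ha
  induction ha using Submodule.span_induction with
  | mem x hx =>
    exact hn ⟨x, hx⟩ c (Ideal.pow_le_pow_right (Finset.le_sup (Finset.mem_univ _)) hc)
  | zero => rw [mul_zero, zero_smul]
  | add x y _ _ hx hy => rw [mul_add, add_smul, hx, hy, add_zero]
  | smul r x _ hx => rw [smul_eq_mul, mul_left_comm, mul_smul, hx, smul_zero]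

theorem mem_torsionSub_of_smul_mem (hI : I.FG) {M : Type u} [AddCommGroup M] [Module R M] {m : M}
    (h : ∀ a ∈ I, a • m ∈ DRing.torsionSub I M) : m ∈ DRing.torsionSub I M :=
  exists_pow_smul_eq_zero hI fun a ha => (h a ha).imp fun n hn b hb => by rw [mul_smul]; exact hn b hb

theorem mem_torsionSub_of_pow_smul_mem (hI : I.FG) {M : Type u} [AddCommGroup M] [Module R M]
    (n : ℕ) : ∀ {m : M}, (∀ a ∈ I ^ n, a • m ∈ DRing.torsionSub I M) → m ∈ DRing.torsionSub I M := by
  induction n with
  | zero => exact fun h => by simpa using h 1 (by simp)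
  | succ n ih =>
    refine fun h => mem_torsionSub_of_smul_mem hI fun a ha => ih fun b hb => ?_
    rw [← mul_smul]
    exact h _ (pow_succ I n ▸ Ideal.mul_mem_mul hb ha)

theorem isPowerTorsion_iff_torsionSub_eq_top {M : Type u} [AddCommGroup M] [Module R M] :
    LocCoh.IsPowerTorsion I M ↔ DRing.torsionSub I M = ⊤ :=
  ⟨fun h => Submodule.eq_top_iff'.2 h, fun h m => Submodule.eq_top_iff'.1 h m⟩

theorem torsionBy_pow_eq_bot {M : Type v} [AddCommGroup M] [Module R M]
    (h : LocCoh.torsionBy I M = ⊥) (n : ℕ) :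
    ∀ {m : M}, (∀ a ∈ I ^ n, a • m = 0) → m = 0 := by
  induction n with
  | zero => exact fun hm => by simpa using hm 1 (by simp)
  | succ n ih =>
    intro m hm
    refine ih fun b hb => ?_
    rw [← Submodule.mem_bot R, ← h, Submodule.mem_torsionBySet_iff]
    rintro ⟨a, ha⟩
    show a • b • m = 0
    rw [← mul_smul]
    exact hm _ (pow_succ' I n ▸ Ideal.mul_mem_mul ha hb)

end Groth.Agent.PowTors
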